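import Cfsg.Agent.SuzukiSylowAut.Semilinear
import Cfsg.Agent.Suzuki.Borel
import Cfsg.Agent.Suzuki.LieModel
import Cfsg.Agent.PLocal.Cores
import Cfsg.Prelude.Def_Transfer

/-!
# The automorphism group of a Sylow 2-subgroup of a Suzuki group
-/

set_option autoImplicit false
set_option linter.unusedSectionVars false

open scoped Classical

namespace CfsgLib.SuzukiSylowAut

open CfsgLib.Suzuki CfsgLib.AutSuzuki

universe v
variable {F : Type v} [Field F] [Fintype F] {m : ℕ}

/-- An element of the unipotent subgroup. -/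
def el (hS : SzField F m) (a b : F) : uniSub hS := ⟨uniEl hS a b, uniEl_mem hS a b⟩

theorem el_mul (hS : SzField F m) (a b c d : F) :
    el hS a b * el hS c d = el hS (a + c) (b + d + θ m a * c) := Subtype.ext (uniEl_mul hS a b c d)

theorem el_one (hS : SzField F m) : el hS 0 0 = 1 := Subtype.ext (uniEl_zero hS)

/-- The coordinates. -/
noncomputable def coord (hS : SzField F m) : (uniSub hS) ≃ F × F := (Equiv.ofBijective _ (uniSub_equiv hS)).symm

theorem coord_el (hS : SzField F m) (a b : F) : coord hS (el hS a b) = (a, b) :=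
  (Equiv.ofBijective _ (uniSub_equiv hS)).symm_apply_apply (a, b)

theorem el_coord (hS : SzField F m) (x : uniSub hS) : el hS (coord hS x).1 (coord hS x).2 = x :=
  (Equiv.ofBijective _ (uniSub_equiv hS)).apply_symm_apply x

theorem el_sq (hS : SzField F m) (a b : F) : el hS a b * el hS a b = el hS 0 (θ m a * a) := by
  haveI := hS.charP
  rw [el_mul]; simp [CharTwo.add_self_eq_zero]

theorem fst_map_center (hS : SzField F m) (φ : MulAut (uniSub hS)) (b : F) : (coord hS (φ (el hS 0 b))).1 = 0 := by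
  have h1 : φ (el hS 0 b) * φ (el hS 0 b) = 1 := by
    rw [← map_mul, el_sq, θ_zero, zero_mul, el_one, map_one]
  rw [← el_coord hS (φ (el hS 0 b)), el_sq, ← el_one hS] at h1
  have h2 := congrArg (fun x => (coord hS x).2) h1
  simp only [coord_el] at h2
  rcases mul_eq_zero.1 h2 with h | h
  · exact θ_eq_zero.1 h
  · exact h

theorem fst_mul (hS : SzField F m) (x y : uniSub hS) :
    (coord hS (x * y)).1 = (coord hS x).1 + (coord hS y).1 := by
  conv_lhs => rw [← el_coord hS x, ← el_coord hS y, el_mul, coord_el]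

theorem el_split (hS : SzField F m) (a b : F) : el hS a b = el hS a 0 * el hS 0 b := by
  rw [el_mul]; simp

/-- The map induced on the Frattini quotient. -/
noncomputable def alphaFun (hS : SzField F m) (φ : MulAut (uniSub hS)) (a : F) : F := (coord hS (φ (el hS a 0))).1

theorem fst_map (hS : SzField F m) (φ : MulAut (uniSub hS)) (x : uniSub hS) :
    (coord hS (φ x)).1 = alphaFun hS φ (coord hS x).1 := by
  conv_lhs => rw [← el_coord hS x, el_split, map_mul, fst_mul, fst_map_center, add_zero]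
  rfl

theorem alphaFun_mul (hS : SzField F m) (φ ψ : MulAut (uniSub hS)) (a : F) :
    alphaFun hS (φ * ψ) a = alphaFun hS φ (alphaFun hS ψ a) := by
  show (coord hS (φ (ψ (el hS a 0)))).1 = _
  rw [fst_map]
  rfl

theorem alphaFun_one (hS : SzField F m) (a : F) : alphaFun hS 1 a = a := by
  rw [alphaFun, MulAut.one_apply, coord_el]

/-- The homomorphism to permutations of the field. -/
noncomputable def frattiniHom (hS : SzField F m) : MulAut (uniSub hS) →* Equiv.Perm F where
  toFun φ :=
    { toFun := alphaFun hS φ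
      invFun := alphaFun hS φ⁻¹
      left_inv := fun a => by rw [← alphaFun_mul, inv_mul_cancel, alphaFun_one]
      right_inv := fun a => by rw [← alphaFun_mul, mul_inv_cancel, alphaFun_one] }
  map_one' := Equiv.ext (alphaFun_one hS)
  map_mul' φ ψ := Equiv.ext (alphaFun_mul hS φ ψ)

theorem frattiniHom_apply (hS : SzField F m) (φ : MulAut (uniSub hS)) (a : F) :
    frattiniHom hS φ a = alphaFun hS φ a := rfl

theorem exists_semilinear (hS : SzField F m) (φ : MulAut (uniSub hS)) :
    ∃ (μ : F) (σ : F ≃+* F), μ ≠ 0 ∧ ∀ x, alphaFun hS φ x = μ * σ x := by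
  let α : F →+ F := AddMonoidHom.mk' (alphaFun hS φ) fun a c => by
    show (coord hS (φ (el hS (a + c) 0))).1 = (coord hS (φ (el hS a 0))).1 + (coord hS (φ (el hS c 0))).1
    rw [← fst_mul, ← map_mul, el_mul, el_split, map_mul, fst_mul, el_split hS (a + c) (0 + 0 + θ m a * c),
      map_mul, fst_mul, fst_map_center, fst_map_center]
  let β : F →+ F := AddMonoidHom.mk' (fun b => (coord hS (φ (el hS 0 b))).2) fun b d => by
    have h0 := fst_map_center hS φ b
    have e : el hS 0 (b + d) = el hS 0 b * el hS 0 d := by rw [el_mul]; simp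
    conv_lhs => rw [e, map_mul, ← el_coord hS (φ (el hS 0 b)), ← el_coord hS (φ (el hS 0 d)), el_mul, coord_el]
    simp [h0]
  refine semilinear hS α β (frattiniHom hS φ).injective fun x => ?_
  show (coord hS (φ (el hS 0 (θ m x * x)))).2 = θ m (alphaFun hS φ x) * alphaFun hS φ x
  rw [← el_sq hS x 0, map_mul]
  conv_lhs => rw [← el_coord hS (φ (el hS x 0)), el_sq, coord_el]
  rfl

/-- The automorphism `(a, b) ↦ (μ σ a, θ(μ) μ σ b)`. -/
noncomputable def diagField (hS : SzField F m) (μ : Fˣ) (σ : F ≃+* F) : MulAut (uniSub hS) :=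
  MulEquiv.ofBijective
    (MonoidHom.mk' (fun x => el hS (μ * σ (coord hS x).1) (θ m (μ : F) * μ * σ (coord hS x).2)) fun x y => by
      conv_lhs => rw [← el_coord hS x, ← el_coord hS y, el_mul, coord_el]
      rw [el_mul]
      simp only [map_add, map_mul, map_θ, θ_mul]
      congr 1 <;> ring)
    (Finite.injective_iff_bijective.1 fun x y h => by
      obtain ⟨h1, h2⟩ := (uniEl_eq_iff hS).1 (congrArg Subtype.val h)
      rw [← el_coord hS x, ← el_coord hS y, σ.injective (mul_left_cancel₀ μ.ne_zero h1),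
        σ.injective (mul_left_cancel₀ (mul_ne_zero (fun e => μ.ne_zero (θ_eq_zero.1 e)) μ.ne_zero) h2)])

theorem alphaFun_diagField (hS : SzField F m) (μ : Fˣ) (σ : F ≃+* F) (a : F) :
    alphaFun hS (diagField hS μ σ) a = μ * σ a := by
  show (coord hS (el hS (μ * σ (coord hS (el hS a 0)).1) _)).1 = _
  rw [coord_el, coord_el]

/-- The automorphism `(a, b) ↦ (a, f a + b)`. -/
noncomputable def shear (hS : SzField F m) (f : F →+ F) : MulAut (uniSub hS) :=
  MulEquiv.ofBijective
    (MonoidHom.mk' (fun x => el hS (coord hS x).1 (f (coord hS x).1 + (coord hS x).2)) fun x y => by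
      conv_lhs => rw [← el_coord hS x, ← el_coord hS y, el_mul, coord_el]
      rw [el_mul]
      congr 1
      simp only [map_add]; ring)
    (Finite.injective_iff_bijective.1 fun x y h => by
      obtain ⟨h1, h2⟩ := (uniEl_eq_iff hS).1 (congrArg Subtype.val h)
      rw [h1] at h2
      rw [← el_coord hS x, ← el_coord hS y, h1, add_left_cancel h2])

theorem shear_apply (hS : SzField F m) (f : F →+ F) (a b : F) :
    shear hS f (el hS a b) = el hS a (f a + b) := by
  show el hS (coord hS (el hS a b)).1 _ = _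
  rw [coord_el]

theorem shear_mem_ker (hS : SzField F m) (f : F →+ F) : shear hS f ∈ (frattiniHom hS).ker := by
  rw [MonoidHom.mem_ker]
  refine Equiv.ext fun a => ?_
  rw [frattiniHom_apply, alphaFun, shear_apply, coord_el]
  rfl

theorem exists_shear (hS : SzField F m) {φ : MulAut (uniSub hS)} (hφ : φ ∈ (frattiniHom hS).ker) :
    ∃ f, φ = shear hS f := by
  haveI := hS.charP
  have hα : ∀ a, alphaFun hS φ a = a := fun a => DFunLike.congr_fun (MonoidHom.mem_ker.1 hφ) a
  have hval : ∀ a, φ (el hS a 0) = el hS a (coord hS (φ (el hS a 0))).2 := fun a => by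
    conv_lhs => rw [← el_coord hS (φ (el hS a 0))]
    rw [show (coord hS (φ (el hS a 0))).1 = a from hα a]
  have hsq : ∀ b, φ (el hS 0 b) = el hS 0 b := by
    intro b
    obtain ⟨a, ha⟩ := self_mul_θ_surjective hS b
    have hb : b = θ m a * a := by rw [← ha]; ring
    rw [hb, ← el_sq hS a 0, map_mul, hval, el_sq, el_sq]
  let f : F →+ F := AddMonoidHom.mk' (fun a => (coord hS (φ (el hS a 0))).2) fun a c => by
    have h2 : (coord hS (φ (el hS a 0 * el hS c 0))).2 =
        (coord hS (el hS a (coord hS (φ (el hS a 0))).2 * el hS c (coord hS (φ (el hS c 0))).2)).2 := by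
      rw [← hval, ← hval, map_mul]
    rw [el_mul, el_mul, coord_el, el_split hS (a + c), map_mul, hsq, hval (a + c), el_mul, coord_el] at h2
    simp only [θ_add hS, mul_zero, add_zero, zero_add] at h2
    exact add_right_cancel h2
  refine ⟨f, MulEquiv.ext fun x => ?_⟩
  rw [← el_coord hS x, shear_apply, el_split, map_mul, hsq]
  conv_lhs => rw [hval, el_mul]
  simp [f]

theorem shear_injective (hS : SzField F m) : Function.Injective (shear hS) := fun f g h =>
  AddMonoidHom.ext fun a => by
    have := congrArg (fun φ => (coord hS (φ (el hS a 0))).2) h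
    simpa [shear_apply, coord_el] using this

theorem card_ker (hS : SzField F m) : Nat.card (frattiniHom hS).ker = 2 ^ ((2 * m + 1) ^ 2) := by
  rw [← card_addHom hS]
  refine (Nat.card_eq_of_bijective (fun f => (⟨shear hS f, shear_mem_ker hS f⟩ : (frattiniHom hS).ker))
    ⟨fun f g h => shear_injective hS (congrArg Subtype.val h), fun x => ?_⟩).symm
  obtain ⟨f, hf⟩ := exists_shear hS x.2
  exact ⟨f, Subtype.ext hf.symm⟩

theorem ker_elementary (hS : SzField F m) : Cfsg.IsElementaryAbelian 2 (frattiniHom hS).ker := by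
  haveI := hS.charP
  have hmul : ∀ f g : F →+ F, shear hS f * shear hS g = shear hS (f + g) := fun f g => MulEquiv.ext fun x => by
    rw [← el_coord hS x, MulAut.mul_apply, shear_apply, shear_apply, shear_apply, AddMonoidHom.add_apply, add_assoc]
  refine ⟨⟨⟨fun x y => ?_⟩⟩, fun x hx => ?_⟩
  · obtain ⟨f, hf⟩ := exists_shear hS x.2
    obtain ⟨g, hg⟩ := exists_shear hS y.2
    exact Subtype.ext (by rw [Subgroup.coe_mul, Subgroup.coe_mul, hf, hg, hmul, hmul, add_comm])
  · obtain ⟨f, rfl⟩ := exists_shear hS hx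
    rw [pow_two, hmul]
    refine MulEquiv.ext fun x => ?_
    rw [← el_coord hS x, shear_apply, MulAut.one_apply, AddMonoidHom.add_apply, CharTwo.add_self_eq_zero, zero_add]

theorem card_range (hS : SzField F m) :
    Nat.card (frattiniHom hS).range = (2 * m + 1) * (2 ^ (2 * m + 1) - 1) := by
  haveI := FieldMaps.finite_ringAut (F := F)
  rw [← hS.card_eq, ← card_ringAut hS, ← Fintype.card_units, ← Nat.card_eq_fintype_card, ← Nat.card_prod]
  refine (Nat.card_eq_of_bijective (fun p : (F ≃+* F) × Fˣ =>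
    (⟨frattiniHom hS (diagField hS p.2 p.1), _, rfl⟩ : (frattiniHom hS).range)) ⟨?_, ?_⟩).symm
  · rintro ⟨σ, μ⟩ ⟨σ', μ'⟩ h
    have h' : ∀ a, (μ : F) * σ a = (μ' : F) * σ' a := fun a => by
      rw [← alphaFun_diagField hS, ← alphaFun_diagField hS]
      exact DFunLike.congr_fun (congrArg Subtype.val h) a
    have h1 : μ = μ' := Units.ext (by simpa using h' 1)
    subst h1
    rw [RingEquiv.ext fun a => mul_left_cancel₀ μ.ne_zero (h' a)]
  · rintro ⟨_, φ, rfl⟩
    obtain ⟨μ, σ, hμ, h⟩ := exists_semilinear hS φ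
    refine ⟨(σ, Units.mk0 μ hμ), Subtype.ext (Equiv.ext fun a => ?_)⟩
    show alphaFun hS (diagField hS (Units.mk0 μ hμ) σ) a = alphaFun hS φ a
    rw [alphaFun_diagField, h]
    rfl

theorem result_of_equiv (hS : SzField F m) {G : Type*} [Group G] [Finite G] (e : G ≃* uniSub hS) :
    Cfsg.IsElementaryAbelian 2 (Cfsg.pCore 2 (MulAut G)) ∧
      Nat.card (Cfsg.pCore 2 (MulAut G)) = 2 ^ ((2 * m + 1) ^ 2) ∧
      Nat.card (MulAut G) = 2 ^ ((2 * m + 1) ^ 2) * ((2 * m + 1) * (2 ^ (2 * m + 1) - 1)) := by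
  let c : MulAut G ≃* MulAut (uniSub hS) := MulAut.congr e
  let π := (frattiniHom hS).comp c.toMonoidHom
  have hcard : Nat.card π.ker = 2 ^ ((2 * m + 1) ^ 2) := by
    rw [← card_ker hS]
    refine Nat.card_eq_of_bijective (fun x : π.ker => (⟨c x.1, x.2⟩ : (frattiniHom hS).ker))
      ⟨fun x y h => Subtype.ext (c.injective (congrArg Subtype.val h)), fun y => ⟨⟨c.symm y.1, ?_⟩, ?_⟩⟩
    · show frattiniHom hS (c (c.symm y.1)) = 1
      rw [c.apply_symm_apply]; exact y.2
    · exact Subtype.ext (c.apply_symm_apply y.1)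
  have helem : Cfsg.IsElementaryAbelian 2 π.ker := by
    obtain ⟨hc, hp⟩ := ker_elementary hS
    refine ⟨⟨⟨fun x y => Subtype.ext (c.injective ?_)⟩⟩, fun x hx => c.injective ?_⟩
    · have := congrArg Subtype.val (hc.is_comm.comm ⟨c x.1, x.2⟩ ⟨c y.1, y.2⟩)
      simpa using this
    · rw [map_pow, map_one]
      exact hp _ hx
  have hrange : π.range = (frattiniHom hS).range := by
    rw [MonoidHom.range_comp, MonoidHom.range_eq_top.2 c.surjective, ← MonoidHom.range_eq_map]
  haveI : Fact (Nat.Prime 2) := ⟨Nat.prime_two⟩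
  haveI : Finite (MulAut G) := Finite.of_injective _ DFunLike.coe_injective
  have hpg : IsPGroup 2 π.ker := IsPGroup.of_card hcard
  have hcore : Cfsg.pCore 2 (MulAut G) = π.ker := by
    refine le_antisymm (sSup_le ?_) (CfsgLib.PLocal.le_pCore hpg)
    rintro N ⟨-, hN⟩ x hx
    have h1 : IsPGroup 2 (N.map π) := hN.map π
    obtain ⟨k, hk⟩ := IsPGroup.iff_card.1 h1
    have hodd : ¬ 2 ∣ Nat.card π.range := by
      rw [hrange, card_range hS]
      intro h
      have : 1 ≤ 2 ^ (2 * m + 1) := Nat.one_le_two_pow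
      have h2 : 2 ^ (2 * m + 1) % 2 = 0 := by rw [pow_succ, Nat.mul_mod_left]
      rcases Nat.prime_two.dvd_mul.1 h with h' | h' <;> omega
    have hk0 : k = 0 := by
      by_contra hne
      exact hodd ((dvd_pow_self 2 hne).trans (hk ▸ Subgroup.card_dvd_of_le (Subgroup.map_le_range π N)))
    rw [hk0, pow_zero, Subgroup.card_eq_one] at hk
    have hmem : π x ∈ N.map π := ⟨x, hx, rfl⟩
    rw [hk, Subgroup.mem_bot] at hmem
    exact hmem
  refine ⟨hcore ▸ helem, hcore ▸ hcard, ?_⟩
  rw [← Subgroup.card_mul_index π.ker, hcard, Subgroup.index_ker, hrange, card_range hS]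

theorem sylow_result (hS : SzField F m) (P : Sylow 2 ↥(Cfsg.Lie.Sz F (2 ^ (m + 1))))
    {G : Type*} [Group G] [Finite G] (e : G ≃* (P : Subgroup ↥(Cfsg.Lie.Sz F (2 ^ (m + 1))))) :
    Cfsg.IsElementaryAbelian 2 (Cfsg.pCore 2 (MulAut G)) ∧
      Nat.card (Cfsg.pCore 2 (MulAut G)) = 2 ^ ((2 * m + 1) ^ 2) ∧
      Nat.card (MulAut G) = 2 ^ ((2 * m + 1) ^ 2) * ((2 * m + 1) * (2 ^ (2 * m + 1) - 1)) := by
  haveI : Fact (Nat.Prime 2) := ⟨Nat.prime_two⟩
  let j := lieSzEquiv hS
  have hU : IsPGroup 2 (uniSub hS) := IsPGroup.of_card (n := 2 * (2 * m + 1)) (by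
    rw [card_uniSub, hS.card_eq, ← pow_mul, mul_comm])
  let U : Sylow 2 (Cfsg.Sz F m) := hU.toSylow (odd_index_uniSub hS)
  haveI : Finite (Cfsg.Lie.Sz F (2 ^ (m + 1))) := Finite.of_equiv _ j.toEquiv
  let U' := U.mapSurjective (f := j.toMonoidHom) j.surjective
  have e1 : (uniSub hS) ≃* (U' : Subgroup ↥(Cfsg.Lie.Sz F (2 ^ (m + 1)))) :=
    (uniSub hS).equivMapOfInjective j.toMonoidHom j.injective
  exact result_of_equiv hS ((e.trans (Sylow.equiv P U')).trans e1.symm)

end CfsgLib.SuzukiSylowAut
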