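import Cfsg.Agent.AutSuzuki.Field
import Cfsg.Agent.SuzukiTwoGroup.Field

/-!
# Additive maps compatible with `x ↦ θ x * x` are semilinear
-/

set_option autoImplicit false
set_option linter.unusedSectionVars false

open scoped Classical

namespace CfsgLib.SuzukiSylowAut

open CfsgLib.Suzuki CfsgLib.AutSuzuki

universe v
variable {F : Type v} [Field F] [Fintype F] {m : ℕ}

noncomputable local instance : Fintype (F ≃+* F) :=
  haveI := FieldMaps.finite_ringAut (F := F)
  Fintype.ofFinite _

/-- `θ` as a field automorphism. -/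
noncomputable def thetaAut (hS : SzField F m) : F ≃+* F :=
  RingEquiv.ofBijective
    ({ toFun := θ m, map_one' := θ_one, map_mul' := θ_mul, map_zero' := θ_zero, map_add' := θ_add hS } : F →+* F)
    (Finite.injective_iff_bijective.1 (θ_injective hS))

theorem thetaAut_apply (hS : SzField F m) (x : F) : thetaAut hS x = θ m x := rfl

theorem independent [CharP F 2] (c : (F ≃+* F) → F) (h : ∀ x, ∑ σ, c σ * σ x = 0) (τ : F ≃+* F) : c τ = 0 := by
  have h1 := CfsgLib.SuzukiTwoGroup.coeff_eq_zero Finset.univ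
    (fun σ : F ≃+* F => (σ.toMonoidHom : F →* F)) c h τ.toMonoidHom
  rwa [show Finset.univ.filter (fun σ : F ≃+* F => (σ.toMonoidHom : F →* F) = τ.toMonoidHom) = {τ} by
    ext σ
    simp only [Finset.mem_filter, Finset.mem_univ, true_and, Finset.mem_singleton]
    exact ⟨fun e => RingEquiv.ext fun x => DFunLike.congr_fun e x, fun e => e ▸ rfl⟩, Finset.sum_singleton] at h1

/-- The number of additive endomorphisms. -/
theorem card_addHom (hS : SzField F m) : Nat.card (F →+ F) = 2 ^ ((2 * m + 1) ^ 2) := by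
  haveI := hS.charP
  haveI : Fact (Nat.Prime 2) := ⟨Nat.prime_two⟩
  letI : Algebra (ZMod 2) F := ZMod.algebra F 2
  haveI : Module.Finite (ZMod 2) F := Module.Finite.of_finite
  have hn : Module.finrank (ZMod 2) F = 2 * m + 1 := by
    have h := Module.card_eq_pow_finrank (K := ZMod 2) (V := F)
    rw [ZMod.card, hS.card_eq] at h
    exact (Nat.pow_right_injective le_rfl h).symm
  let e : (F →+ F) ≃ (F →ₗ[ZMod 2] F) :=
    { toFun := fun f => f.toZModLinearMap 2
      invFun := fun f => f.toAddMonoidHom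
      left_inv := fun f => rfl
      right_inv := fun f => rfl }
  haveI : Finite (F →ₗ[ZMod 2] F) := Finite.of_injective _ DFunLike.coe_injective
  rw [Nat.card_congr e, Module.natCard_eq_pow_finrank (K := ZMod 2), Module.finrank_linearMap, hn,
    Nat.card_eq_fintype_card (α := ZMod 2), ZMod.card, pow_two]

/-- Additive maps are combinations of field automorphisms. -/
theorem exists_coeff (hS : SzField F m) (g : F →+ F) :
    ∃ c : (F ≃+* F) → F, ∀ x, g x = ∑ σ, c σ * σ x := by
  let Φ : ((F ≃+* F) → F) → (F →+ F) := fun c =>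
    AddMonoidHom.mk' (fun x => ∑ σ, c σ * σ x) fun x y => by
      simp only [map_add, mul_add, Finset.sum_add_distrib]
  haveI := hS.charP
  haveI : Finite (F →+ F) := Finite.of_injective _ DFunLike.coe_injective
  have hinj : Function.Injective Φ := fun c d h => funext fun τ => by
    refine sub_eq_zero.1 (independent (fun σ => c σ - d σ) (fun x => ?_) τ)
    have := DFunLike.congr_fun h x
    simp only [Φ, AddMonoidHom.mk'_apply] at this
    simp only [sub_mul, Finset.sum_sub_distrib, this, sub_self]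
  have hbij := (Nat.bijective_iff_injective_and_card Φ).2 ⟨hinj, by
    rw [Nat.card_fun, card_ringAut hS, card_addHom hS, Nat.card_eq_fintype_card, hS.card_eq, ← pow_mul, pow_two]⟩
  obtain ⟨c, hc⟩ := hbij.2 g
  exact ⟨c, fun x => by rw [← hc]; rfl⟩

theorem theta_four_ne_one (hS : SzField F m) :
    thetaAut hS * (thetaAut hS * (thetaAut hS * thetaAut hS)) ≠ 1 := by
  intro h
  obtain ⟨x, hx0, hx⟩ := exists_θ_ne hS
  have h4 := DFunLike.congr_fun h x
  simp only [RingAut.mul_apply, thetaAut_apply, RingAut.one_apply, θ_θ hS] at h4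
  rw [← pow_mul] at h4
  have h3 : x ^ 3 = 1 := mul_left_cancel₀ hx0 (by rw [← pow_succ', mul_one]; exact h4)
  refine hx ?_
  have h2n : 2 ^ (2 * m + 1) % 3 = 2 := by
    rw [pow_succ, pow_mul, Nat.mul_mod, Nat.pow_mod]
    norm_num
  have hq : x ^ (Fintype.card F - 1) = 1 := FiniteField.pow_card_sub_one_eq_one x hx0
  have hx1 : x = 1 := by
    have hq3 : Fintype.card F % 3 = 2 := by rw [hS.card_eq]; exact h2n
    rw [show Fintype.card F - 1 = 3 * ((Fintype.card F - 1) / 3) + 1 by omega, pow_add, pow_mul,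
      h3, one_pow, one_mul, pow_one] at hq
    exact hq
  rw [hx1, θ_one]

/-- The semilinearity. -/
theorem semilinear (hS : SzField F m) (α β : F →+ F) (hα : Function.Injective α)
    (h : ∀ x, β (θ m x * x) = θ m (α x) * α x) : ∃ (μ : F) (σ : F ≃+* F), μ ≠ 0 ∧ ∀ x, α x = μ * σ x := by
  haveI := hS.charP
  obtain ⟨c, hc⟩ := exists_coeff hS α
  obtain ⟨b, hb⟩ := exists_coeff hS β
  set T := thetaAut hS with hT
  have hTcomm : ∀ (τ : F ≃+* F) (x : F), τ (θ m x) = (T * τ) x := fun τ x => by
    rw [RingAut.mul_apply, hT, thetaAut_apply, map_θ]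
  set M : (F ≃+* F) → (F ≃+* F) → F := fun σ τ => θ m (c (T⁻¹ * σ)) * c τ + if σ = T * τ then b τ else 0 with hM
  have hθα : ∀ x, θ m (α x) = ∑ σ, θ m (c (T⁻¹ * σ)) * σ x := by
    intro x
    rw [hc, ← thetaAut_apply hS, map_sum, ← Equiv.sum_comp (Equiv.mulLeft T) (fun σ => θ m (c (T⁻¹ * σ)) * σ x)]
    refine Finset.sum_congr rfl fun σ _ => ?_
    rw [Equiv.coe_mulLeft, inv_mul_cancel_left, map_mul, thetaAut_apply, RingAut.mul_apply]
  have hL : ∀ x y, θ m (α x) * α y + β (θ m x * y) = ∑ σ, ∑ τ, M σ τ * (σ x * τ y) := by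
    intro x y
    rw [hθα x, hc y, Finset.sum_mul_sum, hb]
    simp only [hM, add_mul, ite_mul, zero_mul, Finset.sum_add_distrib]
    congr 1
    · exact Finset.sum_congr rfl fun σ _ => Finset.sum_congr rfl fun τ _ => by ring
    · rw [Finset.sum_comm]
      refine Finset.sum_congr rfl fun τ _ => ?_
      rw [Finset.sum_ite_eq' Finset.univ (T * τ), if_pos (Finset.mem_univ _), map_mul, hTcomm]
  have hsym : ∀ σ τ, M σ τ = M τ σ := by
    have h0 : ∀ x y, ∑ σ, ∑ τ, (M σ τ + M τ σ) * (σ x * τ y) = 0 := by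
      intro x y
      simp only [add_mul, Finset.sum_add_distrib]
      rw [← hL x y, show (∑ σ, ∑ τ, M τ σ * (σ x * τ y)) = ∑ σ, ∑ τ, M σ τ * (σ y * τ x) by
        rw [Finset.sum_comm]
        exact Finset.sum_congr rfl fun σ _ => Finset.sum_congr rfl fun τ _ => by ring, ← hL y x]
      have e := h (x + y)
      rw [θ_add hS, map_add α, θ_add hS, show (θ m x + θ m y) * (x + y) =
        θ m x * x + θ m y * y + (θ m x * y + θ m y * x) by ring, map_add, map_add, map_add, h x, h y] at e
      have h2 := hS.two_eq_zero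
      linear_combination e + (θ m (α x) * α y + θ m (α y) * α x) * h2
    intro σ τ
    have h2 : ∀ y, ∑ τ, (M σ τ + M τ σ) * τ y = 0 := by
      intro y
      refine independent (fun σ => ∑ τ, (M σ τ + M τ σ) * τ y) (fun x => ?_) σ
      rw [← h0 x y]
      refine Finset.sum_congr rfl fun σ _ => ?_
      rw [Finset.sum_mul]
      exact Finset.sum_congr rfl fun τ _ => by ring
    exact CharTwo.add_eq_zero.1 (independent (fun τ => M σ τ + M τ σ) h2 τ)
  have hdiag : ∀ σ, θ m (c (T⁻¹ * σ)) * c σ = 0 := by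
    intro σ
    have hsum : ∀ x, ∑ σ, M σ σ * σ (x * x) = 0 := by
      intro x
      have hzero : ∑ σ, ∑ τ, M σ τ * (σ x * τ x) = 0 := by
        rw [← hL, h]; exact CharTwo.add_self_eq_zero _
      rw [← Finset.sum_product', ← Finset.sum_filter_add_sum_filter_not (Finset.univ ×ˢ Finset.univ)
        (fun p : (F ≃+* F) × (F ≃+* F) => p.1 = p.2)] at hzero
      have hoff : ∑ p ∈ (Finset.univ ×ˢ Finset.univ).filter (fun p : (F ≃+* F) × (F ≃+* F) => ¬ p.1 = p.2),
          M p.1 p.2 * (p.1 x * p.2 x) = 0 := by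
        refine Finset.sum_involution (fun p _ => (p.2, p.1)) (fun p _ => ?_) (fun p hp _ e => ?_)
          (fun p hp => ?_) (fun p _ => rfl)
        · show M p.1 p.2 * (p.1 x * p.2 x) + M p.2 p.1 * (p.2 x * p.1 x) = 0
          rw [hsym p.2 p.1, mul_comm (p.2 x)]
          exact CharTwo.add_self_eq_zero _
        · exact (Finset.mem_filter.1 hp).2 (congrArg Prod.fst e).symm
        · simp only [Finset.mem_filter, Finset.mem_product, Finset.mem_univ, true_and] at hp ⊢
          exact Ne.symm hp
      rw [hoff, add_zero] at hzero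
      rw [← hzero]
      refine Finset.sum_bij (fun σ _ => (σ, σ)) (fun σ _ => by simp) (fun _ _ _ _ e => congrArg Prod.fst e)
        (fun p hp => ⟨p.1, Finset.mem_univ _, Prod.ext rfl (Finset.mem_filter.1 hp).2⟩) (fun σ _ => ?_)
      rw [map_mul]
    have h2 : ∀ x, ∑ σ, M σ σ * σ x = 0 := by
      intro x
      obtain ⟨z, rfl⟩ := (pow_two_pow_bijective hS 1).2 x
      simp only [pow_one, pow_two]
      exact hsum z
    have := independent (fun σ => M σ σ) h2 σ
    simp only [hM] at this
    rwa [if_neg, add_zero] at this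
    intro e
    obtain ⟨x, -, hx⟩ := exists_θ_ne hS
    have hxx := DFunLike.congr_fun e (σ.symm x)
    rw [RingAut.mul_apply, RingEquiv.apply_symm_apply, hT, thetaAut_apply] at hxx
    exact hx hxx.symm
  have huniq : ∀ k l, c k ≠ 0 → c l ≠ 0 → k = l := by
    intro k l hk hl
    by_contra hne
    have step : ∀ k l, c k ≠ 0 → c l ≠ 0 → k ≠ l → l = T * (T * k) := by
      intro k l hk hl hne
      by_contra hl2
      have hadj : c (T * k) = 0 := by
        have := hdiag (T * k)
        rw [inv_mul_cancel_left] at this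
        exact (mul_eq_zero.1 this).resolve_left fun e => hk (θ_eq_zero.1 e)
      have e := hsym (T * k) l
      simp only [hM, inv_mul_cancel_left, hadj, mul_zero, zero_add] at e
      rw [if_neg (fun e' => hne (mul_left_cancel e')), if_neg hl2, add_zero] at e
      exact (mul_ne_zero (fun e' => hk (θ_eq_zero.1 e')) hl) e
    have e1 := step k l hk hl hne
    have e2 := step l k hl hk (Ne.symm hne)
    rw [e1] at e2
    refine theta_four_ne_one hS (mul_right_cancel (b := k) ?_)
    rw [one_mul, mul_assoc, mul_assoc, mul_assoc]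
    exact e2.symm
  obtain ⟨σ, hσ⟩ : ∃ σ, c σ ≠ 0 := by
    by_contra hno
    push Not at hno
    exact one_ne_zero (hα (a₁ := (1 : F)) (a₂ := 0) (by simp [hc, hno]))
  refine ⟨c σ, σ, hσ, fun x => ?_⟩
  rw [hc, Finset.sum_eq_single σ]
  · intro τ _ hne
    have : c τ = 0 := by_contra fun h' => hne (huniq τ σ h' hσ)
    rw [this, zero_mul]
  · exact fun h' => absurd (Finset.mem_univ σ) h'

end CfsgLib.SuzukiSylowAut
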